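import Groth.Agent.EtTorsion.GmPullComp
import Groth.Agent.FieldCd.Acyclic

/-! the adjoint of the restriction of units along an etale morphism is an isomorphism -/

universe u

open CategoryTheory CategoryTheory.Limits AlgebraicGeometry Opposite

namespace Groth.Agent.EtTorsion

set_option autoImplicit false
set_option maxHeartbeats 1000000
set_option synthInstance.maxHeartbeats 400000
set_option backward.isDefEq.respectTransparency false
set_option backward.isDefEq.respectTransparency.types false
set_option linter.style.haveILetI false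

open EtFound EtLC12.AffineLocalAcyclic Adeq2Lib

variable {U X : Scheme.{u}}

/-- the adjoint of the restriction of units along an etale morphism is an isomorphism -/
theorem isIso_gmT (j : U ⟶ X) [AlgebraicGeometry.Etale j] : IsIso (gmT j) := by
  haveI := jCont j
  let a : EtShriek.compEtale j ⊣ EtCoh.bc j :=
    MorphismProperty.Over.mapPullbackAdj EtCoh.etaleMP ⊤ j
      (inferInstanceAs (AlgebraicGeometry.Etale j)) trivial
  let adj' := a.sheafPushforwardContinuous (E := AddCommGrpCat.{u + 1}) U.smallEtaleTopology X.smallEtaleTopology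
  let κ : (EtShriek.restrAlong j).obj (EtCoh.Gm X) ≅ EtCoh.Gm U :=
    (fullyFaithfulSheafToPresheaf _ _).preimageIso
      (NatIso.ofComponents (fun _ => Iso.refl _) fun f => by
        refine (Category.comp_id _).trans (Eq.trans ?_ (Category.id_comp _).symm)
        rfl)
  have h1 : adj'.homEquiv _ _ κ.hom = EtLim.GmPush j := by
    rw [Adjunction.homEquiv_unit]
    refine Sheaf.hom_ext (NatTrans.ext (funext fun V => ConcreteCategory.hom_ext _ _ fun s => ?_))
    refine ULift.ext _ _ (Additive.toMul.injective (Units.ext ?_))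
    rfl
  have h2 : adj'.homEquiv _ _ ((restrIsoPull j).hom.app (EtCoh.Gm X) ≫ gmT j) = EtLim.GmPush j := by
    rw [Adjunction.homEquiv_naturality_right]
    refine (congrArg (· ≫ _) (Adjunction.homEquiv_leftAdjointUniq_hom_app adj' (EtCoh.pullPushAdj j) (EtCoh.Gm X))).trans ?_
    rw [← Adjunction.homEquiv_unit, gmT, Adjunction.homEquiv_naturality_left]
    refine (congrArg (EtLim.GmPush j ≫ ·) ?_).trans (Category.comp_id _)
    simp [Adjunction.homEquiv_unit]
  have h3 : (restrIsoPull j).hom.app (EtCoh.Gm X) ≫ gmT j = κ.hom :=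
    (adj'.homEquiv _ _).injective (h2.trans h1.symm)
  have h4 : gmT j = (restrIsoPull j).inv.app (EtCoh.Gm X) ≫ κ.hom := by
    rw [← h3, ← Category.assoc, Iso.inv_hom_id_app, Category.id_comp]
  rw [h4]
  infer_instance

theorem Hpull_eq_zero_of_HGmPull (j : U ⟶ X) [AlgebraicGeometry.Etale j] [PreservesFiniteLimits (EtCoh.pull j)]
    (n : ℕ) (ξ : EtCoh.H X (EtCoh.Gm X) n) (h : EtLim.HGmPull j n ξ = 0) :
    EtCore.Hpull j (EtCoh.Gm X) n ξ = 0 := by
  haveI := isIso_gmT j
  rw [HGmPull_eq] at h
  exact (ConcreteCategory.bijective_of_isIso ((EtCoh.HF U n).map (gmT j))).1 (h.trans (map_zero _).symm)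

end Groth.Agent.EtTorsion
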