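import Groth.Agent.EtTorsion.GmTors
import Groth.Agent.EtTorsion.GmPullIso

/-! degree two classes of the multiplicative group are detected at the maximal points -/

universe u

open CategoryTheory CategoryTheory.Limits AlgebraicGeometry Opposite CategoryTheory.Abelian TopologicalSpace

namespace Groth.Agent.EtTorsion

set_option autoImplicit false
set_option maxHeartbeats 1000000
set_option synthInstance.maxHeartbeats 400000
set_option backward.isDefEq.respectTransparency false
set_option backward.isDefEq.respectTransparency.types false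
set_option linter.style.haveILetI false

open CurveCd GmSeq CoproductsFromFiniteFiltered

variable {X : Scheme.{u}}

/-- coproducts of sheaves without cohomology -/
theorem subsingleton_H_coproduct [CompactSpace X] [QuasiSeparatedSpace X] {α : Type u} (f : α → EtCoh.Ab X) (q : ℕ)
    (hf : ∀ a, Subsingleton (EtCoh.H X (f a) q)) : Subsingleton (EtCoh.H X (∐ f) q) := by
  classical
  haveI := Groth.Agent.S0099.result X q (Finset (Discrete α))
  refine subsingleton_of_forall_eq 0 fun x => ?_
  obtain ⟨S, y, hy⟩ := Concrete.isColimit_exists_rep _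
    (isColimitOfPreserves (EtCoh.HF X q) (isColimitFiniteSubproductsCocone f)) x
  subst hy
  suffices hy0 : y = 0 by
    rw [hy0]
    exact map_zero ((EtCoh.HF X q).map ((finiteSubcoproductsCocone f).ι.app S)).hom
  let g : {a // a ∈ S} → EtCoh.Ab X := fun a => f a.1.as
  let p : ∀ a, (∐ g) ⟶ g a := fun a => Sigma.desc fun b => if e : b = a then eqToHom (by rw [e]) else 0
  have h : ∑ a, p a ≫ Sigma.ι g a = 𝟙 (∐ g) := by
    refine Sigma.hom_ext _ _ fun b => ?_
    rw [Preadditive.comp_sum, Category.comp_id, Finset.sum_eq_single b]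
    · rw [← Category.assoc, Sigma.ι_desc, dif_pos rfl, eqToHom_refl, Category.id_comp]
    · intro a _ hab
      rw [← Category.assoc, Sigma.ι_desc, dif_neg (Ne.symm hab), zero_comp]
    · exact fun hb => absurd (Finset.mem_univ b) hb
  let y' : EtCoh.H X (∐ g) q := y
  show y' = 0
  have key : ∀ T : Finset {a // a ∈ S},
      y'.comp (Ext.mk₀ (∑ a ∈ T, p a ≫ Sigma.ι g a)) (add_zero q) = 0 := fun T => by
    induction T using Finset.induction_on with
    | empty => simp
    | @insert i T hiT ih =>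
      rw [Finset.sum_insert hiT, Ext.mk₀_add, Ext.comp_add, ih, add_zero, ← Ext.mk₀_comp_mk₀,
        ← Ext.comp_assoc_of_third_deg_zero, @Subsingleton.elim _ (hf i.1.as) (y'.comp (Ext.mk₀ (p i)) _) 0,
        Ext.zero_comp]
  have := key Finset.univ
  rwa [h, Ext.comp_mk₀_id] at this

/-- the integral case -/
theorem H2_Gm_injective_of_isIntegral [IsNoetherian X] [IsIntegral X] [FactStalks X]
    [PreservesFiniteLimits (EtCoh.pull (etaHom X))] (ξ : EtCoh.H X (EtCoh.Gm X) 2)
    (hξ : EtLim.HGmPull (etaHom X) 2 ξ = 0) : ξ = 0 := by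
  obtain ⟨hmono, ⟨e⟩⟩ := mono_and_cokernel_iso (X := X) (Cofan.mk _ (Sigma.ι fun x : ↥(P1 X) =>
    (EtCoh.push (X.fromSpecResidueField x.1)).obj (EtCoh.const (Spec (X.residueField x.1)) ℤ)))
    (coproductIsCoproduct _)
  haveI := hmono
  let g := EtLim.GmPush (etaHom X)
  have hS : (ShortComplex.mk g (cokernel.π g) (cokernel.condition g)).ShortExact :=
    { exact := ShortComplex.exact_of_g_is_cokernel _ (cokernelIsCokernel g) }
  let K : Type u := X.functionField
  haveI : Subsingleton (Spec (X.presheaf.stalk (genericPoint X))) := inferInstanceAs (Subsingleton (PrimeSpectrum K))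
  have h0 : ξ.comp (Ext.mk₀ g) (add_zero 2) = 0 :=
    CdGm.HofPush_Gm_two_injective (etaHom X) (hξ.trans (map_zero _).symm)
  obtain ⟨z, hz⟩ := Ext.covariant_sequence_exact₁ _ hS ξ h0 (n₀ := 1) rfl
  have hC : Subsingleton (EtCoh.H X (cokernel g) 1) :=
    FieldCd.subsingleton_H_of_iso e.symm 1 (subsingleton_H_coproduct _ 1 fun x =>
      subsingleton_H1_push _ _ (subsingleton_H1_const_field (X.residueField x.1) ℤ))
  rw [← hz, @Subsingleton.elim _ hC z 0, Ext.zero_comp]

/-- the general case -/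
theorem H2_Gm_injective [IsNoetherian X] [FactStalks X]
    [∀ x : X, PreservesFiniteLimits (EtCoh.pull (X.fromSpecStalk x))] (ξ : EtCoh.H X (EtCoh.Gm X) 2)
    (hξ : ∀ x : X, (∀ y : X, y ⤳ x → y = x) → EtLim.HGmPull (X.fromSpecStalk x) 2 ξ = 0) : ξ = 0 := by
  haveI : ∀ {A B : Scheme.{u}} (g : A ⟶ B), PreservesFiniteLimits (EtCoh.pull g) := fun g => EtContLib.pfl g
  suffices H : ∀ (C : Closeds X) {Y : Scheme.{u}} (j : Y ⟶ X) [IsOpenImmersion j], Set.range j.base = C →
      ∀ (η : EtCoh.H Y (EtCoh.Gm Y) 2),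
        (∀ y : Y, (∀ z : Y, z ⤳ y → z = y) → EtLim.HGmPull (Y.fromSpecStalk y) 2 η = 0) → η = 0 from
    H ⊤ (𝟙 X) (by simp) ξ hξ
  intro C
  induction C using WellFoundedLT.induction with
  | ind C ih =>
    intro Y j _ hj η hη
    haveI : IsLocallyNoetherian Y := isLocallyNoetherian_of_isOpenImmersion j
    haveI : CompactSpace Y :=
      isCompact_univ_iff.1 (j.isOpenEmbedding.isInducing.isCompact_iff.2 (NoetherianSpace.isCompact _))
    haveI : IsNoetherian Y := ⟨⟩
    haveI := factStalks_of_openImmersion j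
    rcases isEmpty_or_nonempty Y with hY | hY
    · exact @Subsingleton.elim _ (subsingleton_H_of_supp (fun y _ => hY.elim y) _) η 0
    by_cases hc : PreconnectedSpace Y
    · haveI : ConnectedSpace Y := ⟨hY⟩
      haveI : IsIntegral Y := (Groth.Agent.S2280.result Y).2.2 ⟨inferInstance, fun y =>
        (FactStalks.out (EtCoh.top Y) y).1⟩
      refine H2_Gm_injective_of_isIntegral η (hη _ fun z hz => ?_)
      exact (Specializes.antisymm hz (genericPoint_specializes z)).eq
    rw [preconnectedSpace_iff_clopen] at hc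
    push_neg at hc
    obtain ⟨A, hA, hA1, hA2⟩ := hc
    let U : Y.Opens := ⟨A, hA.isOpen⟩
    let V : Y.Opens := ⟨Aᶜ, hA.isClosed.isOpen_compl⟩
    have key : ∀ W : Y.Opens, IsClosed (W : Set Y) → (W : Set Y) ≠ Set.univ →
        EtCore.Hpull W.ι (EtCoh.Gm Y) 2 η = 0 := by
      intro W hW hne
      refine Hpull_eq_zero_of_HGmPull W.ι 2 η ?_
      have hcl : IsClosed (j.base '' (W : Set Y)) := by
        rw [show j.base '' (W : Set Y) = (C : Set X) ∩ (j.base '' (W : Set Y)ᶜ)ᶜ from ?_]
        · exact C.isClosed.inter (j.isOpenEmbedding.isOpenMap _ hW.isOpen_compl).isClosed_compl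
        rw [← hj, ← Set.diff_eq, Set.range_diff_image j.isOpenEmbedding.injective, compl_compl]
      refine ih ⟨j.base '' W, hcl⟩ ?_ (W.ι ≫ j) ?_ _ fun w hw => ?_
      · refine lt_of_le_of_ne (fun x hx => (congrArg (x ∈ ·) hj).mp (Set.image_subset_range _ _ hx)) fun h => hne ?_
        refine Set.eq_univ_of_forall fun y => ?_
        have hy : j.base y ∈ j.base '' (W : Set Y) := by
          rw [show j.base '' (W : Set Y) = (C : Set X) from congrArg (fun D : Closeds X => (D : Set X)) h, ← hj]
          exact ⟨y, rfl⟩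
        obtain ⟨w, hw, hwy⟩ := hy
        exact j.isOpenEmbedding.injective hwy ▸ hw
      · rw [Scheme.Hom.comp_base, TopCat.coe_comp, Set.range_comp, Scheme.Opens.range_ι]
        rfl
      · have hmax : ∀ z : Y, z ⤳ W.ι.base w → z = W.ι.base w := by
          intro z hz
          have hzW : z ∈ W := hz.mem_open W.isOpen w.2
          have h2 : (⟨z, hzW⟩ : ↥W) ⤳ w := W.ι.isOpenEmbedding.isInducing.specializes_iff.1 hz
          exact congrArg W.ι.base (hw ⟨z, hzW⟩ h2)
        rw [HGmPull_comp _ W.ι _ rfl,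
          ← HGmPull_comp (Spec.map (W.ι.stalkMap w)) (Y.fromSpecStalk (W.ι.base w)) (W.toScheme.fromSpecStalk w ≫ W.ι)
            (Scheme.SpecMap_stalkMap_fromSpecStalk W.ι),
          hη _ hmax, map_zero]
    obtain ⟨δ, -, hδ, -, -⟩ := EtMVLib.mayerVietoris Y U V (Opens.ext (Set.union_compl_self A)) (EtCoh.Gm Y)
    have hE : IsEmpty ↥(U ⊓ V) := ⟨fun x => x.2.2 x.2.1⟩
    have hmem : η ∈ (AddMonoidHom.prod (EtCore.Hpull U.ι (EtCoh.Gm Y) (1 + 1))
        (EtCore.Hpull V.ι (EtCoh.Gm Y) (1 + 1))).ker :=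
      AddMonoidHom.mem_ker.2 (Prod.ext (key U hA.isClosed hA2)
        (key V hA.isOpen.isClosed_compl fun h => hA1.ne_empty (Set.compl_univ_iff.1 h)))
    rw [hδ 1] at hmem
    obtain ⟨z, hz⟩ := hmem
    rw [← hz, @Subsingleton.elim _ (subsingleton_H_of_supp (fun y _ => hE.elim y) 1) z 0, map_zero]

end Groth.Agent.EtTorsion
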