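import Groth.Agent.EtTorsion.Point
import Groth.Agent.EtTorLib.TorsorKill
import Groth.Agent.CdGm.Artin

/-! degree one cohomology of torsion free constant sheaves on points -/

universe u

open CategoryTheory CategoryTheory.Limits AlgebraicGeometry Opposite CategoryTheory.Abelian

namespace Groth.Agent.EtTorsion

set_option autoImplicit false
set_option maxHeartbeats 1000000
set_option synthInstance.maxHeartbeats 400000
set_option backward.isDefEq.respectTransparency false
set_option backward.isDefEq.respectTransparency.types false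
set_option linter.style.haveILetI false

/-- multiplication by `n` on a group and its cokernel -/
noncomputable def nSeq (M : Type) [AddCommGroup M] (n : ℕ) : ShortComplex AddCommGrpCat.{u + 1} :=
  ShortComplex.mk (X₁ := AddCommGrpCat.of (ULift.{u + 1} M)) (X₂ := AddCommGrpCat.of (ULift.{u + 1} M))
    (X₃ := AddCommGrpCat.of (ULift.{u + 1} (M ⧸ (nsmulAddMonoidHom (α := M) n).range)))
    (AddCommGrpCat.ofHom (AddMonoidHom.mk' (fun k => ⟨n • k.down⟩) fun a b => ULift.ext _ _ (nsmul_add _ _ _)))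
    (AddCommGrpCat.ofHom (AddMonoidHom.mk' (fun k => ⟨QuotientAddGroup.mk' _ k.down⟩) fun a b => ULift.ext _ _ (map_add _ _ _)))
    (by
      refine AddCommGrpCat.hom_ext (AddMonoidHom.ext fun k => ULift.ext _ _ ?_)
      exact (QuotientAddGroup.eq_zero_iff _).2 ⟨k.down, rfl⟩)

theorem nSeq_f (M : Type) [AddCommGroup M] (n : ℕ) : (nSeq.{u} M n).f = n • 𝟙 _ := by
  refine AddCommGrpCat.hom_ext (AddMonoidHom.ext fun k => ULift.ext _ _ ?_)
  simp [nSeq]

theorem nSeq_shortExact (M : Type) [AddCommGroup M] [IsAddTorsionFree M] {n : ℕ} (hn : 0 < n) :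
    (nSeq.{u} M n).ShortExact where
  exact := by
    rw [ShortComplex.ab_exact_iff]
    rintro ⟨k⟩ hk
    obtain ⟨c, hc⟩ := (QuotientAddGroup.eq_zero_iff _).1 (congrArg ULift.down hk)
    exact ⟨⟨c⟩, ULift.ext _ _ hc⟩
  mono_f := (AddCommGrpCat.mono_iff_injective _).2 fun a b h =>
    ULift.ext _ _ (IsAddTorsionFree.nsmul_right_injective hn.ne' (congrArg ULift.down h))
  epi_g := (AddCommGrpCat.epi_iff_surjective _).2 fun m => by
    obtain ⟨k, hk⟩ := QuotientAddGroup.mk'_surjective _ m.down
    exact ⟨⟨k⟩, ULift.ext _ _ hk⟩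

variable {X : Scheme.{u}}

theorem constSect_naturality {A B : Type} [AddCommGroup A] [AddCommGroup B]
    (φ : AddCommGrpCat.of (ULift.{u + 1} A) ⟶ AddCommGrpCat.of (ULift.{u + 1} B)) (V : X.Etale) (a : ULift.{u + 1} A) :
    ((constantSheaf X.smallEtaleTopology AddCommGrpCat.{u + 1}).map φ).hom.app (op V) (EtTorLib.constSect A V a) =
      EtTorLib.constSect B V (φ a) := by
  have e := congrArg (fun η => NatTrans.app η (op V))
    (toSheafify_naturality X.smallEtaleTopology ((Functor.const X.Etaleᵒᵖ).map φ))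
  exact ((ConcreteCategory.comp_apply _ _ _).symm.trans (ConcreteCategory.congr_hom e.symm a)).trans
    (ConcreteCategory.comp_apply _ _ _)

/-- torsion free constant sheaves on a connected scheme: torsion classes in degree one vanish -/
theorem H1_const_eq_zero_of_nsmul [PreconnectedSpace X] (M : Type) [AddCommGroup M] [IsAddTorsionFree M]
    (α : EtCoh.H X (EtCoh.const X M) 1) {n : ℕ} (hn : 0 < n) (hα : n • α = 0) : α = 0 := by
  obtain ⟨_, hS⟩ := EtTorLib.constantSheaf_shortExact (Y := X) (nSeq_shortExact M hn)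
  let C := constantSheaf X.smallEtaleTopology AddCommGrpCat.{u + 1}
  haveI : (EtCore.gsec X).Additive := ⟨fun {_ _ _ _} => rfl⟩
  haveI : C.Additive := (EtCore.constAdj X).left_adjoint_additive
  obtain ⟨z, hz⟩ := Ext.covariant_sequence_exact₁ _ hS (α : EtCoh.H X (EtCoh.const X M) 1) (by
    have hf : ((nSeq M n).map C).f = n • 𝟙 (EtCoh.const X M) :=
      (congrArg C.map (nSeq_f M n)).trans ((C.map_nsmul).trans (congrArg (n • ·) (C.map_id _)))
    refine (congrArg (fun q => α.comp (Ext.mk₀ q) (add_zero 1)) hf).trans ?_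
    exact (GalTorLib.HF_map_nsmul _ 1 n α).trans hα) (n₀ := 0) rfl
  obtain ⟨z, rfl⟩ := (Ext.mk₀_bijective _ _).2 z
  let adj := EtCore.constAdj X
  haveI : PreconnectedSpace (EtCoh.top X).left := inferInstanceAs (PreconnectedSpace X)
  let zz : AddCommGrpCat.of (ULift.{u + 1} ℤ) ⟶ (EtCore.gsec X).obj ((nSeq M n).map C).X₃ := adj.homEquiv _ _ z
  obtain ⟨mb, hmb⟩ := EtTorLib.constSect_surjective (M ⧸ (nsmulAddMonoidHom (α := M) n).range) (EtCoh.top X) (zz ⟨1⟩)
  obtain ⟨m, hm⟩ := QuotientAddGroup.mk'_surjective _ mb.down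
  let l : AddCommGrpCat.of (ULift.{u + 1} ℤ) ⟶ (EtCore.gsec X).obj ((nSeq M n).map C).X₂ :=
    AddCommGrpCat.ofHom (AddMonoidHom.mk' (fun k => k.down • EtTorLib.constSect M (EtCoh.top X) ⟨m⟩)
      fun a b => add_zsmul _ _ _)
  have hl : l ≫ (EtCore.gsec X).map ((nSeq M n).map C).g = zz := by
    refine AddCommGrpCat.hom_ext (AddMonoidHom.ext fun k => ?_)
    have e1 : ((EtCore.gsec X).map ((nSeq M n).map C).g) (EtTorLib.constSect M (EtCoh.top X) ⟨m⟩) = zz ⟨1⟩ :=
      ((constSect_naturality (nSeq M n).g (EtCoh.top X) ⟨m⟩).trans (congrArg _ (ULift.ext _ _ hm))).trans hmb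
    refine ((map_zsmul ((EtCore.gsec X).map ((nSeq M n).map C).g).hom k.down _).trans
      (congrArg (k.down • ·) e1)).trans ?_
    refine (map_zsmul zz.hom k.down _).symm.trans (congrArg zz.hom (ULift.ext _ _ ?_))
    show k.down • (1 : ℤ) = k.down
    simp
  have hz' : z = (adj.homEquiv _ _).symm l ≫ ((nSeq M n).map C).g := by
    rw [← Adjunction.homEquiv_naturality_right_symm, hl]
    exact ((adj.homEquiv _ _).symm_apply_apply z).symm
  rw [← hz, hz', ← Ext.mk₀_comp_mk₀, Ext.comp_assoc_of_second_deg_zero, ShortComplex.ShortExact.comp_extClass,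
    Ext.comp_zero]

/-- torsion free constant sheaves on the spectrum of a field have no degree one cohomology -/
theorem subsingleton_H1_const_field (K : Type u) [Field K] (M : Type) [AddCommGroup M] [IsAddTorsionFree M] :
    Subsingleton (EtCoh.H (Spec (CommRingCat.of K)) (EtCoh.const (Spec (CommRingCat.of K)) M) 1) := by
  haveI : Subsingleton (Spec (CommRingCat.of K)) := inferInstanceAs (Subsingleton (PrimeSpectrum K))
  haveI : PreconnectedSpace (Spec (CommRingCat.of K)) := ⟨Set.subsingleton_univ.isPreconnected⟩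
  refine subsingleton_of_forall_eq 0 fun α => ?_
  obtain ⟨n, hn, h⟩ := isOfFinAddOrder_iff_nsmul_eq_zero.1 (GalTorLib.isOfFinAddOrder K _ 1 one_pos α)
  exact H1_const_eq_zero_of_nsmul M α hn h

/-- degree one cohomology of direct images is detected on the source -/
theorem subsingleton_H1_push {S Y : Scheme.{u}} (f : S ⟶ Y) (G : EtCoh.Ab S)
    (h : Subsingleton (EtCoh.H S G 1)) : Subsingleton (EtCoh.H Y ((EtCoh.push f).obj G) 1) := by
  haveI : PreservesFiniteLimits (EtCoh.pull f) := EtContLib.pfl f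
  haveI : (EtCoh.pull f).IsLeftAdjoint := (EtCoh.pullPushAdj f).isLeftAdjoint
  haveI : (EtCoh.push f).IsRightAdjoint := (EtCoh.pullPushAdj f).isRightAdjoint
  haveI : (EtCoh.pull f).Additive := (EtCoh.pullPushAdj f).left_adjoint_additive
  haveI : PreservesFiniteLimits (EtCoh.push f) :=
    haveI := (EtCoh.pullPushAdj f).rightAdjoint_preservesLimits
    PreservesLimitsOfSize.preservesFiniteLimits.{0, 0} _
  exact subsingleton_of_forall_eq 0 fun x =>
    CdGm.eq_zero_of_hof_one (EtCoh.pullPushAdj f) (EtCore.pullConst f ℤ).inv inferInstance _ x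
      (@Subsingleton.elim _ h _ _)

end Groth.Agent.EtTorsion
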