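import Groth.Agent.EtContLib.ThenOps
import Groth.Prelude.Def_EtLim

/-! functoriality of the pullback on cohomology of the multiplicative group -/

universe u

open CategoryTheory CategoryTheory.Limits AlgebraicGeometry Opposite

namespace Groth.Agent.EtTorsion

set_option autoImplicit false
set_option maxHeartbeats 1000000
set_option synthInstance.maxHeartbeats 400000
set_option backward.isDefEq.respectTransparency false
set_option backward.isDefEq.respectTransparency.types false
set_option linter.style.haveILetI false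

open EtContLib

variable {X Y Z : Scheme.{u}}

/-- the adjoint of the restriction of units -/
noncomputable def gmT (f : X ⟶ Y) : (EtCoh.pull f).obj (EtCoh.Gm Y) ⟶ EtCoh.Gm X :=
  (EtCoh.pull f).map (EtLim.GmPush f) ≫ (EtCoh.pullPushAdj f).counit.app (EtCoh.Gm X)

theorem HGmPull_eq (f : X ⟶ Y) [PreservesFiniteLimits (EtCoh.pull f)] (n : ℕ) (ξ : EtCoh.H Y (EtCoh.Gm Y) n) :
    EtLim.HGmPull f n ξ = EtLim.HpullThen f (EtCoh.Gm Y) (gmT f) n ξ :=
  (HpullThen_map_source f (EtLim.GmPush f) ((EtCoh.pullPushAdj f).counit.app (EtCoh.Gm X)) n ξ).symm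

theorem ev_gmT (f : X ⟶ Y) (V : Y.Etale) (s : (EtCoh.Gm Y).obj.obj (op V)) :
    ev f (gmT f) V s = (EtLim.GmPush f).hom.app (op V) s :=
  (ev_map_comp f (EtLim.GmPush f) _ V s).trans (ev_counit f V _)

theorem comp2_gmT (f : X ⟶ Y) (g : Y ⟶ Z) (h : X ⟶ Z) (w : f ≫ g = h) :
    comp2 f g h w (gmT g) (gmT f) = gmT h := by
  refine ev_ext h fun V s => ?_
  rw [ev_comp2, ev_gmT, ev_gmT, ev_gmT]
  refine ULift.ext _ _ (Additive.toMul.injective (Units.ext ?_))
  show (bcMap f g h w V).left.appTop ((pullback.fst ((EtCoh.bc g).obj V).hom f).appTop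
    ((pullback.fst V.hom g).appTop (Additive.toMul (ULift.down s)).1)) =
    (pullback.fst V.hom h).appTop (Additive.toMul (ULift.down s)).1
  rw [← bcMap_fst f g h w V]
  rfl

theorem HGmPull_comp (f : X ⟶ Y) (g : Y ⟶ Z) (h : X ⟶ Z) (w : f ≫ g = h) [PreservesFiniteLimits (EtCoh.pull f)]
    [PreservesFiniteLimits (EtCoh.pull g)] [PreservesFiniteLimits (EtCoh.pull h)] (n : ℕ)
    (ξ : EtCoh.H Z (EtCoh.Gm Z) n) : EtLim.HGmPull f n (EtLim.HGmPull g n ξ) = EtLim.HGmPull h n ξ := by
  rw [HGmPull_eq, HGmPull_eq, HGmPull_eq, HpullThen_comp f g h w, comp2_gmT]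

end Groth.Agent.EtTorsion
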