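import Groth.Agent.EtTorsion.ConstH1
import Groth.Agent.GmSeq.Seq
import Groth.Agent.EtMVLib.MV
import Groth.Agent.S2280
import Mathlib.CategoryTheory.Limits.Constructions.Filtered

/-! cohomology of the multiplicative group of a scheme with factorial etale local rings is torsion -/

universe u

open CategoryTheory CategoryTheory.Limits AlgebraicGeometry Opposite CategoryTheory.Abelian TopologicalSpace

namespace Groth.Agent.EtTorsion

set_option autoImplicit false
set_option maxHeartbeats 1000000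
set_option synthInstance.maxHeartbeats 400000
set_option backward.isDefEq.respectTransparency false
set_option backward.isDefEq.respectTransparency.types false
set_option linter.style.haveILetI false

open CurveCd GmSeq CoproductsFromFiniteFiltered

variable {X : Scheme.{u}}

/-- torsion cohomology passes along isomorphisms -/
theorem isAddTorsion_H_of_iso {F G : EtCoh.Ab X} (e : F ≅ G) (q : ℕ) (h : IsAddTorsion (EtCoh.H X F q)) :
    IsAddTorsion (EtCoh.H X G q) := by
  intro α
  obtain ⟨n, hn, hn'⟩ := isOfFinAddOrder_iff_nsmul_eq_zero.1 (h ((EtCoh.HF X q).map e.inv α))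
  refine isOfFinAddOrder_iff_nsmul_eq_zero.2 ⟨n, hn, (ConcreteCategory.bijective_of_isIso
    ((EtCoh.HF X q).map e.inv)).1 ?_⟩
  rw [map_nsmul, map_zero]
  exact hn'

/-- finite sums -/
theorem isAddTorsion_H_of_split {F : EtCoh.Ab X} {ι : Type u} [Fintype ι] {G : ι → EtCoh.Ab X} (p : ∀ i, F ⟶ G i)
    (j : ∀ i, G i ⟶ F) (h : ∑ i, p i ≫ j i = 𝟙 F) (q : ℕ) (hG : ∀ i, IsAddTorsion (EtCoh.H X (G i) q)) :
    IsAddTorsion (EtCoh.H X F q) := by
  intro α
  classical
  have key : ∀ T : Finset ι, IsOfFinAddOrder (α.comp (Ext.mk₀ (∑ i ∈ T, p i ≫ j i)) (add_zero q)) := fun T => by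
    induction T using Finset.induction_on with
    | empty => simp only [Finset.sum_empty, Ext.mk₀_zero, Ext.comp_zero]; exact IsOfFinAddOrder.zero
    | @insert i T hiT ih =>
      rw [Finset.sum_insert hiT, Ext.mk₀_add, Ext.comp_add, ← Ext.mk₀_comp_mk₀,
        ← Ext.comp_assoc_of_third_deg_zero]
      refine IsOfFinAddOrder.add ?_ ih
      exact ((EtCoh.HF X q).map (j i)).hom.isOfFinAddOrder (hG i (α.comp (Ext.mk₀ (p i)) (add_zero q)))
  have := key Finset.univ
  rwa [h, Ext.comp_mk₀_id] at this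

/-- coproducts -/
theorem isAddTorsion_H_coproduct [CompactSpace X] [QuasiSeparatedSpace X] {α : Type u} (f : α → EtCoh.Ab X) (q : ℕ)
    (hf : ∀ a, IsAddTorsion (EtCoh.H X (f a) q)) : IsAddTorsion (EtCoh.H X (∐ f) q) := by
  intro x
  classical
  haveI := Groth.Agent.S0099.result X q (Finset (Discrete α))
  obtain ⟨S, y, hy⟩ := Concrete.isColimit_exists_rep _
    (isColimitOfPreserves (EtCoh.HF X q) (isColimitFiniteSubproductsCocone f)) x
  subst hy
  refine ((EtCoh.HF X q).map ((finiteSubcoproductsCocone f).ι.app S)).hom.isOfFinAddOrder ?_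
  let g : {a // a ∈ S} → EtCoh.Ab X := fun a => f a.1.as
  let p : ∀ a, (∐ g) ⟶ g a := fun a => Sigma.desc fun b => if e : b = a then eqToHom (by rw [e]) else 0
  refine isAddTorsion_H_of_split (ι := {a // a ∈ S}) (F := ∐ g) (G := g) p (fun a => Sigma.ι g a) ?_ q (fun a => hf _) y
  refine Sigma.hom_ext _ _ fun b => ?_
  rw [Preadditive.comp_sum, Category.comp_id, Finset.sum_eq_single b]
  · rw [← Category.assoc, Sigma.ι_desc, dif_pos rfl, eqToHom_refl, Category.id_comp]
  · intro a _ hab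
    rw [← Category.assoc, Sigma.ι_desc, dif_neg (Ne.symm hab), zero_comp]
  · exact fun hb => absurd (Finset.mem_univ b) hb

/-- direct images from fields -/
theorem isAddTorsion_H_push_field [CompactSpace X] [QuasiSeparatedSpace X] {k : Type u} [Field k]
    (f : Spec (CommRingCat.of k) ⟶ X) (F : EtCoh.Ab (Spec (CommRingCat.of k))) (q : ℕ) (hq : 1 ≤ q) :
    IsAddTorsion (EtCoh.H X ((EtCoh.push f).obj F) q) := by
  haveI := Groth.Agent.S0099.result X q (AsSmall.{u} ℕ)
  haveI : PreservesColimitsOfShape ℕ (EtCoh.HF X q) :=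
    preservesColimitsOfShape_of_equiv (AsSmall.equiv.{0, 0, u} (C := ℕ)).symm _
  haveI : QuasiCompact f := inferInstance
  haveI : QuasiSeparated f := inferInstance
  haveI : PreservesColimitsOfShape (AsSmall.{u + 1} ℕ) (EtCoh.push f) := EtTorLib.preservesColimitsOfShape_push _ _
  haveI : PreservesColimitsOfShape ℕ (EtCoh.push f) :=
    preservesColimitsOfShape_of_equiv (AsSmall.equiv.{0, 0, u + 1} (C := ℕ)).symm _
  let T := EtCoh.push f ⋙ EtCoh.HF X q
  haveI := EtContLib.pfl f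
  haveI := GalTorLib.subsingleton_of_uniquely_divisible k _ (isQSheaf_colimit F) q hq
  haveI : Subsingleton (EtCoh.H X ((EtCoh.push f).obj (colimit (ratSeq F))) q) :=
    (Groth.Agent.S14451.result f _ (fun n hn => FieldCd.isZero_Rpush_of_isPtAcyclic f
      (isPtAcyclic_of_isQSheaf (isQSheaf_colimit F)) n hn) q).1.subsingleton
  intro α
  have hc := isColimitOfPreserves T (colimit.isColimit (ratSeq F))
  haveI : PreservesFilteredColimitsOfSize.{0, 0} (forget AddCommGrpCat.{u + 1}) :=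
    preservesFilteredColimitsOfSize_shrink _
  haveI : PreservesColimitsOfShape ℕ (forget AddCommGrpCat.{u + 1}) :=
    PreservesFilteredColimitsOfSize.preserves_filtered_colimits _
  obtain ⟨N, a, b, hN⟩ := Concrete.isColimit_exists_of_rep_eq (ratSeq F ⋙ T) (i := 0) (j := 0) hc α 0
    (@Subsingleton.elim _ ‹_› _ _)
  rw [map_zero] at hN
  obtain ⟨N', rfl⟩ : ∃ N', N = 0 + N' := ⟨N, (zero_add N).symm⟩
  refine isOfFinAddOrder_iff_nsmul_eq_zero.2 ⟨_, Nat.ascFactorial_pos 0 N', ?_⟩
  have e : (ratSeq F).map a = (0 + 1).ascFactorial N' • 𝟙 F :=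
    (congrArg (ratSeq F).map (Subsingleton.elim a _)).trans (ratSeq_map F 0 N')
  have e' : (EtCoh.push f).map ((ratSeq F).map a) = (0 + 1).ascFactorial N' • 𝟙 ((EtCoh.push f).obj F) :=
    (congrArg (EtCoh.push f).map e).trans
      (by rw [Functor.map_nsmul]; exact congrArg _ ((EtCoh.push f).map_id F))
  have h2 : (EtCoh.HF X q).map ((EtCoh.push f).map ((ratSeq F).map a)) α = 0 := hN
  rw [e'] at h2
  exact (GalTorLib.HF_map_nsmul _ q _ α).symm.trans h2

/-- the integral case -/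
theorem isAddTorsion_H_Gm_of_isIntegral [IsNoetherian X] [IsIntegral X] [FactStalks X] (q : ℕ) (hq : 2 ≤ q) :
    IsAddTorsion (EtCoh.H X (EtCoh.Gm X) q) := by
  obtain ⟨n, rfl⟩ : ∃ n, q = n + 1 := ⟨q - 1, by omega⟩
  obtain ⟨hmono, ⟨e⟩⟩ := mono_and_cokernel_iso (X := X) (Cofan.mk _ (Sigma.ι fun x : ↥(P1 X) =>
    (EtCoh.push (X.fromSpecResidueField x.1)).obj (EtCoh.const (Spec (X.residueField x.1)) ℤ)))
    (coproductIsCoproduct _)
  haveI := hmono
  let g := EtLim.GmPush (etaHom X)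
  have hS : (ShortComplex.mk g (cokernel.π g) (cokernel.condition g)).ShortExact :=
    { exact := ShortComplex.exact_of_g_is_cokernel _ (cokernelIsCokernel g) }
  have hC : IsAddTorsion (EtCoh.H X (cokernel g) n) := isAddTorsion_H_of_iso e.symm n
    (isAddTorsion_H_coproduct _ n fun x => isAddTorsion_H_push x.1 _ n (by omega))
  let K : Type u := X.functionField
  have hJ : IsAddTorsion (EtCoh.H X ((EtCoh.push (etaHom X)).obj
      (EtCoh.Gm (Spec (X.presheaf.stalk (genericPoint X))))) (n + 1)) :=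
    isAddTorsion_H_push_field (k := K) (etaHom X) _ (n + 1) (by omega)
  intro α
  obtain ⟨a, ha, ha'⟩ := isOfFinAddOrder_iff_nsmul_eq_zero.1 (hJ (α.comp (Ext.mk₀ g) (add_zero (n + 1))))
  have h0 : (a • α).comp (Ext.mk₀ g) (add_zero (n + 1)) = 0 := by
    refine Eq.trans ?_ ha'
    exact map_nsmul ((EtCoh.HF X (n + 1)).map g).hom a α
  obtain ⟨z, hz⟩ := Ext.covariant_sequence_exact₁ _ hS (a • α) h0 (n₀ := n) rfl
  obtain ⟨b, hb, hb'⟩ := isOfFinAddOrder_iff_nsmul_eq_zero.1 (hC z)
  refine isOfFinAddOrder_iff_nsmul_eq_zero.2 ⟨b * a, Nat.mul_pos hb ha, ?_⟩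
  rw [mul_smul, ← hz]
  refine Eq.trans ?_ ((congrArg (fun w => Ext.comp w hS.extClass rfl) hb').trans (by simp))
  exact (map_nsmul ((hS.extClass).postcomp (EtCoh.const X ℤ) (show n + 1 = n + 1 from rfl)) b z).symm

/-- factoriality passes to open subschemes -/
theorem factStalks_of_openImmersion [FactStalks X] {Y : Scheme.{u}} (j : Y ⟶ X) [IsOpenImmersion j] : FactStalks Y :=
  ⟨fun V v =>
    let f : V.left ⟶ Y := V.hom
    haveI : AlgebraicGeometry.Etale f := V.prop
    FactStalks.out (X := X) (Scheme.Etale.mk (f ≫ j)) v⟩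

/-- pulling the multiplicative group back along an open immersion -/
theorem isAddTorsion_H_pull_Gm {Y : Scheme.{u}} (j : Y ⟶ X) [IsOpenImmersion j] (q : ℕ)
    (h : IsAddTorsion (EtCoh.H Y (EtCoh.Gm Y) q)) :
    IsAddTorsion (EtCoh.H Y ((EtCoh.pull j).obj (EtCoh.Gm X)) q) := by
  obtain ⟨e⟩ := FieldCd.nonempty_pull_Gm_iso j
  exact isAddTorsion_H_of_iso e.symm q h

/-- disjoint open covers by two pieces -/
theorem isAddTorsion_H_of_clopen_pair (U V : X.Opens) (hUV : U ⊔ V = ⊤) (hd : U ⊓ V = ⊥) (F : EtCoh.Ab X) (n : ℕ)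
    (hU : IsAddTorsion (EtCoh.H ↑U ((EtCoh.pull U.ι).obj F) (n + 1)))
    (hV : IsAddTorsion (EtCoh.H ↑V ((EtCoh.pull V.ι).obj F) (n + 1))) :
    IsAddTorsion (EtCoh.H X F (n + 1)) := by
  haveI : ∀ {A B : Scheme.{u}} (g : A ⟶ B), PreservesFiniteLimits (EtCoh.pull g) := fun g => EtContLib.pfl g
  obtain ⟨δ, -, hδ, -, -⟩ := EtMVLib.mayerVietoris X U V hUV F
  have hE : IsEmpty ↥(U ⊓ V) := ⟨fun x => by
    have := x.2
    simp only [hd] at this
    exact this⟩
  intro α
  obtain ⟨a, ha, ha'⟩ := isOfFinAddOrder_iff_nsmul_eq_zero.1 (hU (EtCore.Hpull U.ι F (n + 1) α))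
  obtain ⟨b, hb, hb'⟩ := isOfFinAddOrder_iff_nsmul_eq_zero.1 (hV (EtCore.Hpull V.ι F (n + 1) α))
  refine isOfFinAddOrder_iff_nsmul_eq_zero.2 ⟨b * a, Nat.mul_pos hb ha, ?_⟩
  have hmem : (b * a) • α ∈ (AddMonoidHom.prod (EtCore.Hpull U.ι F (n + 1)) (EtCore.Hpull V.ι F (n + 1))).ker := by
    refine AddMonoidHom.mem_ker.2 (Prod.ext ?_ ?_)
    · show EtCore.Hpull U.ι F (n + 1) ((b * a) • α) = 0
      rw [map_nsmul, mul_smul, ha', smul_zero]
    · show EtCore.Hpull V.ι F (n + 1) ((b * a) • α) = 0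
      rw [map_nsmul, mul_comm, mul_smul, hb', smul_zero]
  rw [hδ n] at hmem
  obtain ⟨z, hz⟩ := hmem
  rw [← hz, @Subsingleton.elim _ (subsingleton_H_of_supp (fun y _ => hE.elim y) n) z 0, map_zero]

/-- the general case -/
theorem isAddTorsion_H_Gm [IsNoetherian X] [FactStalks X] (q : ℕ) (hq : 2 ≤ q) :
    IsAddTorsion (EtCoh.H X (EtCoh.Gm X) q) := by
  suffices H : ∀ (C : Closeds X) {Y : Scheme.{u}} (j : Y ⟶ X) [IsOpenImmersion j], Set.range j.base = C →
      IsAddTorsion (EtCoh.H Y (EtCoh.Gm Y) q) from H ⊤ (𝟙 X) (by simp)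
  intro C
  induction C using WellFoundedLT.induction with
  | ind C ih =>
    intro Y j _ hj
    obtain ⟨n, rfl⟩ : ∃ n, q = n + 1 := ⟨q - 1, by omega⟩
    haveI : IsLocallyNoetherian Y := isLocallyNoetherian_of_isOpenImmersion j
    haveI : CompactSpace Y :=
      isCompact_univ_iff.1 (j.isOpenEmbedding.isInducing.isCompact_iff.2 (NoetherianSpace.isCompact _))
    haveI : IsNoetherian Y := ⟨⟩
    haveI := factStalks_of_openImmersion j
    rcases isEmpty_or_nonempty Y with hY | hY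
    · exact fun α => (@Subsingleton.elim _ (subsingleton_H_of_supp (fun y _ => hY.elim y) _) 0 α) ▸ IsOfFinAddOrder.zero
    by_cases hc : PreconnectedSpace Y
    · haveI : ConnectedSpace Y := ⟨hY⟩
      haveI : IsIntegral Y := (Groth.Agent.S2280.result Y).2.2 ⟨inferInstance, fun y =>
        (FactStalks.out (EtCoh.top Y) y).1⟩
      exact isAddTorsion_H_Gm_of_isIntegral _ hq
    rw [preconnectedSpace_iff_clopen] at hc
    push_neg at hc
    obtain ⟨A, hA, hA1, hA2⟩ := hc
    let U : Y.Opens := ⟨A, hA.isOpen⟩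
    let V : Y.Opens := ⟨Aᶜ, hA.isClosed.isOpen_compl⟩
    have key : ∀ W : Y.Opens, IsClosed (W : Set Y) → (W : Set Y) ≠ Set.univ →
        IsAddTorsion (EtCoh.H ↑W ((EtCoh.pull W.ι).obj (EtCoh.Gm Y)) (n + 1)) := by
      intro W hW hne
      refine isAddTorsion_H_pull_Gm W.ι _ ?_
      have hcl : IsClosed (j.base '' (W : Set Y)) := by
        rw [show j.base '' (W : Set Y) = (C : Set X) ∩ (j.base '' (W : Set Y)ᶜ)ᶜ from ?_]
        · exact C.isClosed.inter (j.isOpenEmbedding.isOpenMap _ hW.isOpen_compl).isClosed_compl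
        rw [← hj, ← Set.diff_eq, Set.range_diff_image j.isOpenEmbedding.injective, compl_compl]
      refine ih ⟨j.base '' W, hcl⟩ ?_ (W.ι ≫ j) ?_
      · refine lt_of_le_of_ne (fun x hx => (congrArg (x ∈ ·) hj).mp (Set.image_subset_range _ _ hx)) fun h => hne ?_
        refine Set.eq_univ_of_forall fun y => ?_
        have hy : j.base y ∈ j.base '' (W : Set Y) := by
          rw [show j.base '' (W : Set Y) = (C : Set X) from congrArg (fun D : Closeds X => (D : Set X)) h, ← hj]
          exact ⟨y, rfl⟩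
        obtain ⟨w, hw, hwy⟩ := hy
        exact j.isOpenEmbedding.injective hwy ▸ hw
      · rw [Scheme.Hom.comp_base, TopCat.coe_comp, Set.range_comp, Scheme.Opens.range_ι]
        rfl
    refine isAddTorsion_H_of_clopen_pair U V (Opens.ext (Set.union_compl_self A))
      (Opens.ext (Set.inter_compl_self A)) _ n (key U hA.isClosed hA2) (key V hA.isOpen.isClosed_compl ?_)
    intro h
    exact hA1.ne_empty (Set.compl_univ_iff.1 h)

end Groth.Agent.EtTorsion
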