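import Groth.Agent.CurveCd.Rational
import Groth.Agent.EtTorLib.PushColim

/-! higher direct images from points and their cohomology are torsion -/

universe u

open CategoryTheory CategoryTheory.Limits AlgebraicGeometry Opposite

namespace Groth.Agent.EtTorsion

set_option autoImplicit false
set_option maxHeartbeats 1000000
set_option synthInstance.maxHeartbeats 400000
set_option backward.isDefEq.respectTransparency false
set_option backward.isDefEq.respectTransparency.types false
set_option linter.style.haveILetI false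

open CurveCd

variable {X : Scheme.{u}}

/-- sheaves of rational vector spaces on a point are acyclic on the one point etale objects -/
theorem isPtAcyclic_of_isQSheaf {k : Type u} [Field k] {G : EtCoh.Ab (Spec (CommRingCat.of k))} (hG : IsQSheaf G) :
    FieldCd.IsPtAcyclic G := fun T hne hT n hn =>
  subsingleton_H_pt (k := k) _ T hne hT n fun L _ _ _ _ e =>
    GalTorLib.subsingleton_of_uniquely_divisible L _ ((hG.pull _).pull _) n hn

/-- a sheaf valued functor killing all sheaves of rational vector spaces takes torsion values -/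
theorem isTorsion_obj_of_colimit {Y : Scheme.{u}} (T : EtCoh.Ab Y ⥤ EtCoh.Ab X) [T.Additive]
    [PreservesColimitsOfShape ℕ T] (F : EtCoh.Ab Y) (h : IsZero (T.obj (colimit (ratSeq F)))) :
    EtCoh.IsTorsion (T.obj F) := by
  intro U s x
  obtain ⟨W, g, hW, w, hw⟩ := EtTorLib.exists_affine_nhd U x
  let Γ := sheafToPresheaf X.smallEtaleTopology AddCommGrpCat.{u + 1} ⋙
    (evaluation X.Etaleᵒᵖ AddCommGrpCat.{u + 1}).obj (op W)
  haveI := hW
  haveI : PreservesColimitsOfShape (AsSmall.{u + 1} ℕ) Γ :=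
    EtFound.preservesColimitsOfShape_sections_qcqs_ab W (EtFound.isQcqsObj_of_isAffine W) _
  haveI : PreservesColimitsOfShape ℕ Γ :=
    preservesColimitsOfShape_of_equiv (AsSmall.equiv.{0, 0, u + 1} (C := ℕ)).symm _
  have hc := isColimitOfPreserves (T ⋙ Γ) (colimit.isColimit (ratSeq F))
  have hsub : Subsingleton (((T ⋙ Γ).mapCocone (colimit.cocone (ratSeq F))).pt : AddCommGrpCat.{u + 1}) :=
    AddCommGrpCat.subsingleton_of_isZero (Functor.map_isZero Γ h)
  haveI : PreservesFilteredColimitsOfSize.{0, 0} (forget AddCommGrpCat.{u + 1}) :=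
    preservesFilteredColimitsOfSize_shrink _
  haveI : PreservesColimitsOfShape ℕ (forget AddCommGrpCat.{u + 1}) :=
    PreservesFilteredColimitsOfSize.preserves_filtered_colimits _
  let t : ((T.obj F).obj.obj (op W) : Type (u + 1)) := (T.obj F).obj.map g.op s
  obtain ⟨N, f, f', hN⟩ := Concrete.isColimit_exists_of_rep_eq (ratSeq F ⋙ T ⋙ Γ) (i := 0) (j := 0) hc t 0
    (@Subsingleton.elim _ hsub _ _)
  obtain ⟨N', rfl⟩ : ∃ N', N = 0 + N' := ⟨N, (zero_add N).symm⟩
  have hpos : 0 < (0 + 1).ascFactorial N' := Nat.ascFactorial_pos 0 N'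
  refine ⟨W, g, ⟨w, hw⟩, isOfFinAddOrder_iff_nsmul_eq_zero.2 ⟨_, hpos, ?_⟩⟩
  rw [map_zero] at hN
  have e : (ratSeq F).map f = (0 + 1).ascFactorial N' • 𝟙 F :=
    (congrArg (ratSeq F).map (Subsingleton.elim f _)).trans (ratSeq_map F 0 N')
  have e' : T.map ((ratSeq F).map f) = (0 + 1).ascFactorial N' • 𝟙 (T.obj F) :=
    (congrArg T.map e).trans (by rw [T.map_nsmul]; exact congrArg _ (T.map_id F))
  have h2 : (T.map ((ratSeq F).map f)).hom.app (op W) t = 0 := hN
  have h3 : ((0 + 1).ascFactorial N' • 𝟙 (T.obj F)).hom.app (op W) t = 0 :=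
    (congrArg (fun r => r.hom.app (op W) t) e').symm.trans h2
  exact (EtFound.nsmul_hom_app (𝟙 (T.obj F)) _ W t).symm.trans h3

/-- higher direct images from the spectrum of a field along quasi-compact quasi-separated maps are torsion -/
theorem isTorsion_Rpush_of_field {k : Type u} [Field k] (f : Spec (CommRingCat.of k) ⟶ X) [QuasiCompact f]
    [QuasiSeparated f] [EtCoh.BCCont f] (F : EtCoh.Ab (Spec (CommRingCat.of k))) (q : ℕ) (hq : 1 ≤ q) :
    EtCoh.IsTorsion ((EtCoh.Rpush f q).obj F) := by
  haveI : PreservesColimitsOfShape (AsSmall.{u + 1} ℕ) (EtCoh.Rpush f q) :=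
    EtTorLib.preservesColimitsOfShape_Rpush f q _
  haveI : PreservesColimitsOfShape ℕ (EtCoh.Rpush f q) :=
    preservesColimitsOfShape_of_equiv (AsSmall.equiv.{0, 0, u + 1} (C := ℕ)).symm _
  exact isTorsion_obj_of_colimit (EtCoh.Rpush f q) F
    (FieldCd.isZero_Rpush_of_isPtAcyclic f (isPtAcyclic_of_isQSheaf (isQSheaf_colimit F)) q hq)

/-- the inclusion of a point -/
theorem qcqs_ptMor [QuasiSeparatedSpace X] (x : X) :
    QuasiCompact (X.fromSpecResidueField x) ∧ QuasiSeparated (X.fromSpecResidueField x) := by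
  constructor <;> infer_instance

/-- the cohomology of direct images from points is torsion -/
theorem isAddTorsion_H_push [CompactSpace X] [QuasiSeparatedSpace X] (x : X)
    (F : EtCoh.Ab (Spec (X.residueField x))) (q : ℕ) (hq : 1 ≤ q) :
    IsAddTorsion (EtCoh.H X ((EtCoh.push (X.fromSpecResidueField x)).obj F) q) := by
  haveI := (qcqs_ptMor x).1
  haveI := (qcqs_ptMor x).2
  haveI := Groth.Agent.S0099.result X q (AsSmall.{u} ℕ)
  haveI : PreservesColimitsOfShape ℕ (EtCoh.HF X q) :=
    preservesColimitsOfShape_of_equiv (AsSmall.equiv.{0, 0, u} (C := ℕ)).symm _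
  haveI : PreservesColimitsOfShape (AsSmall.{u + 1} ℕ) (EtCoh.push (X.fromSpecResidueField x)) :=
    EtTorLib.preservesColimitsOfShape_push _ _
  haveI : PreservesColimitsOfShape ℕ (EtCoh.push (X.fromSpecResidueField x)) :=
    preservesColimitsOfShape_of_equiv (AsSmall.equiv.{0, 0, u + 1} (C := ℕ)).symm _
  let T := EtCoh.push (X.fromSpecResidueField x) ⋙ EtCoh.HF X q
  haveI : Subsingleton (EtCoh.H X ((EtCoh.push (X.fromSpecResidueField x)).obj (colimit (ratSeq F))) q) :=
    subsingleton_H_push_of_ptAcyclic x _ (isPtAcyclic_of_isQSheaf (k := X.residueField x) (isQSheaf_colimit F)) q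
      (GalTorLib.subsingleton_of_uniquely_divisible (X.residueField x) _ (isQSheaf_colimit F) q hq)
  intro α
  have hc := isColimitOfPreserves T (colimit.isColimit (ratSeq F))
  haveI : PreservesFilteredColimitsOfSize.{0, 0} (forget AddCommGrpCat.{u + 1}) :=
    preservesFilteredColimitsOfSize_shrink _
  haveI : PreservesColimitsOfShape ℕ (forget AddCommGrpCat.{u + 1}) :=
    PreservesFilteredColimitsOfSize.preserves_filtered_colimits _
  obtain ⟨N, f, g, hN⟩ := Concrete.isColimit_exists_of_rep_eq (ratSeq F ⋙ T) (i := 0) (j := 0) hc α 0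
    (@Subsingleton.elim _ ‹_› _ _)
  rw [map_zero] at hN
  obtain ⟨N', rfl⟩ : ∃ N', N = 0 + N' := ⟨N, (zero_add N).symm⟩
  refine isOfFinAddOrder_iff_nsmul_eq_zero.2 ⟨_, Nat.ascFactorial_pos 0 N', ?_⟩
  have e : (ratSeq F).map f = (0 + 1).ascFactorial N' • 𝟙 F :=
    (congrArg (ratSeq F).map (Subsingleton.elim f _)).trans (ratSeq_map F 0 N')
  have e' : (EtCoh.push (X.fromSpecResidueField x)).map ((ratSeq F).map f) =
      (0 + 1).ascFactorial N' • 𝟙 ((EtCoh.push (X.fromSpecResidueField x)).obj F) :=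
    (congrArg (EtCoh.push (X.fromSpecResidueField x)).map e).trans
      (by rw [Functor.map_nsmul]; exact congrArg _ ((EtCoh.push (X.fromSpecResidueField x)).map_id F))
  have h2 : (EtCoh.HF X q).map ((EtCoh.push (X.fromSpecResidueField x)).map ((ratSeq F).map f)) α = 0 := hN
  rw [e'] at h2
  exact (GalTorLib.HF_map_nsmul _ q _ α).symm.trans h2

end Groth.Agent.EtTorsion
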